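import Groth.Agent.HTopCov.AlmostBlowUp
import Mathlib.AlgebraicGeometry.Morphisms.Flat
import Mathlib.RingTheory.Nilpotent.Lemmas
import Mathlib.LinearAlgebra.TensorProduct.Pi
import Mathlib.RingTheory.Ideal.MinimalPrime.Noetherian
import Mathlib.RingTheory.LocalRing.ResidueField.Ideal

/-!
# Containment of flat closed subschemes over a reduced base can be checked on fibres
-/

set_option autoImplicit false
set_option backward.isDefEq.respectTransparency false
set_option backward.isDefEq.respectTransparency.types false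

open AlgebraicGeometry CategoryTheory Limits TensorProduct

namespace Groth.Agent.RelDivX

universe u

/-- An element of a flat module over a reduced Noetherian ring vanishing in every residue fibre is zero. -/
theorem eq_zero_of_forall_residueField {A M : Type u} [CommRing A] [IsNoetherianRing A] [IsReduced A]
    [AddCommGroup M] [Module A M] [Module.Flat A M] (m : M)
    (h : ∀ (p : Ideal A) [p.IsPrime], (1 : p.ResidueField) ⊗ₜ[A] m = 0) : m = 0 := by
  classical
  let ι := {p : Ideal A // p ∈ minimalPrimes A}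
  haveI : Finite ι := (minimalPrimes.finite_of_isNoetherianRing A).to_subtype
  haveI : Fintype ι := Fintype.ofFinite ι
  haveI : ∀ i : ι, i.1.IsPrime := fun i => Ideal.minimalPrimes_isPrime i.2
  let g : A →ₗ[A] (∀ i : ι, i.1.ResidueField) := LinearMap.pi fun i => Algebra.linearMap A i.1.ResidueField
  have hg : Function.Injective g := by
    rw [← LinearMap.ker_eq_bot, eq_bot_iff]
    intro a ha
    have hmem : a ∈ sInf (minimalPrimes A) := Ideal.mem_sInf.2 fun {p} hp => by
      have := congrFun (LinearMap.mem_ker.1 ha) ⟨p, hp⟩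
      exact (@Ideal.algebraMap_residueField_eq_zero A _ p (Ideal.minimalPrimes_isPrime hp) a).1 this
    rw [minimalPrimes, Ideal.sInf_minimalPrimes] at hmem
    obtain ⟨n, hn⟩ := hmem
    exact IsReduced.eq_zero a ⟨n, hn⟩
  have hinj := Module.Flat.lTensor_preserves_injective_linearMap (M := M) g hg
  have hz : g.lTensor M (m ⊗ₜ[A] (1 : A)) = 0 := by
    apply (TensorProduct.piRight A A M (fun i : ι => i.1.ResidueField)).injective
    rw [map_zero, LinearMap.lTensor_tmul]
    funext i
    rw [TensorProduct.piRight_apply, TensorProduct.piRightHom_tmul]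
    show m ⊗ₜ[A] (algebraMap A i.1.ResidueField 1) = 0
    rw [map_one]
    exact (TensorProduct.comm A i.1.ResidueField M).map_eq_zero_iff.2 (h i.1) |> fun e => by simpa using e
  have := hinj (hz.trans (map_zero _).symm)
  simpa using congrArg (TensorProduct.rid A M) this

variable {X T : Scheme.{u}}

theorem ideal_le_of_fibres [IsLocallyNoetherian T] [AlgebraicGeometry.IsReduced T] (π : X ⟶ T)
    (D D' : X.IdealSheafData) [Flat (D'.subschemeι ≫ π)]
    (hfib : ∀ t : ↥T, D.comap (pullback.fst π (T.fromSpecResidueField t)) ≤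
      D'.comap (pullback.fst π (T.fromSpecResidueField t)))
    (V : T.Opens) (hV : IsAffineOpen V) (U : X.Opens) (hU : IsAffineOpen U) (hUV : U ≤ π ⁻¹ᵁ V) :
    D.ideal ⟨U, hU⟩ ≤ D'.ideal ⟨U, hU⟩ := by
  intro a ha
  haveI : IsNoetherianRing Γ(T, V) := IsLocallyNoetherian.component_noetherian ⟨V, hV⟩
  let A : Type u := Γ(T, V)
  let B : Type u := Γ(X, U)
  let M : Type u := Γ(D'.subscheme, D'.subschemeι ⁻¹ᵁ U)
  letI : Algebra A B := (π.appLE V U hUV).hom.toAlgebra
  letI : Algebra A M := ((D'.subschemeι.app U).hom.comp (π.appLE V U hUV).hom).toAlgebra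
  haveI : Module.Flat A M := by
    have hf : ((D'.subschemeι ≫ π).appLE V (D'.subschemeι ⁻¹ᵁ U)
        (fun z hz => hUV hz)).hom.Flat :=
      Flat.flat_appLE (D'.subschemeι ≫ π) hV (hU.preimage D'.subschemeι) _
    have he : ((D'.subschemeι ≫ π).appLE V (D'.subschemeι ⁻¹ᵁ U) (fun z hz => hUV hz)).hom =
        (D'.subschemeι.app U).hom.comp (π.appLE V U hUV).hom := by
      rw [← CommRingCat.hom_comp, Scheme.Hom.app_eq_appLE, Scheme.Hom.appLE_comp_appLE]
    rw [he] at hf
    exact hf
  let ρ : B →ₐ[A] M := { (D'.subschemeι.app U).hom with commutes' := fun _ => rfl }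
  have hker : ∀ b ∈ D'.ideal ⟨U, hU⟩, ρ b = 0 := fun b hb => by
    rw [← D'.ker_subschemeι, Scheme.Hom.ker_apply] at hb
    exact hb
  suffices h0 : ρ a = 0 by
    rw [← D'.ker_subschemeι, Scheme.Hom.ker_apply]
    exact h0
  refine eq_zero_of_forall_residueField (A := A) (ρ a) fun p _ => ?_
  let k : Type u := p.ResidueField
  let C : Type u := k ⊗[A] B
  let ι₁ : k →+* C := Algebra.TensorProduct.includeLeftRingHom
  let φ : B →+* C := (Algebra.TensorProduct.includeRight (R := A) (A := k) (B := B)).toRingHom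
  let j : Spec (CommRingCat.of C) ⟶ X :=
    Spec.map (CommRingCat.ofHom φ : Γ(X, U) ⟶ CommRingCat.of C) ≫ hU.fromSpec
  let gk : Spec (CommRingCat.of k) ⟶ T :=
    Spec.map (CommRingCat.ofHom (algebraMap A k) : Γ(T, V) ⟶ CommRingCat.of k) ≫ hV.fromSpec
  let χ := (Scheme.SpecToEquivOfField k T gk).2
  have hgk : Spec.map χ ≫ T.fromSpecResidueField (Scheme.SpecToEquivOfField k T gk).1 = gk :=
    (Scheme.SpecToEquivOfField k T).symm_apply_apply gk
  have hcomm : j ≫ π = (Spec.map (CommRingCat.ofHom ι₁) ≫ Spec.map χ) ≫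
      T.fromSpecResidueField (Scheme.SpecToEquivOfField k T gk).1 := by
    refine Eq.trans ?_ ((congrArg (Spec.map (CommRingCat.ofHom ι₁) ≫ ·) hgk.symm).trans (Category.assoc _ _ _).symm)
    show (Spec.map _ ≫ hU.fromSpec) ≫ π = Spec.map _ ≫ Spec.map _ ≫ hV.fromSpec
    rw [Category.assoc, ← IsAffineOpen.SpecMap_appLE_fromSpec π hV hU hUV, ← Spec.map_comp_assoc,
      ← Spec.map_comp_assoc]
    congr 2
    ext c
    show φ (algebraMap A B c) = ι₁ (algebraMap A k c)
    exact ((Algebra.TensorProduct.includeRight (R := A) (A := k) (B := B)).commutes c).trans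
      (IsScalarTower.algebraMap_apply A k C c)
  have hle : D.comap j ≤ D'.comap j := by
    rw [← pullback.lift_fst j _ hcomm, Scheme.IdealSheafData.comap_comp, Scheme.IdealSheafData.comap_comp]
    exact Scheme.IdealSheafData.comap_mono _ (hfib _)
  have hform : ∀ E : X.IdealSheafData, (E.comap j).ideal ⟨⊤, isAffineOpen_top _⟩ =
      ((E.ideal ⟨U, hU⟩).map φ).map (Scheme.ΓSpecIso (CommRingCat.of C)).inv.hom := by
    intro E
    rw [Scheme.IdealSheafData.comap_comp, HTopCov.ideal_comap_of_isAffine,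
      HTopCov.ideal_comap_open_top hU.fromSpec ⟨U, hU⟩ hU.opensRange_fromSpec, Ideal.map_map,
      Ideal.map_map, ← CommRingCat.hom_comp]
    congr 2
    show _ = CommRingCat.ofHom φ ≫ (Scheme.ΓSpecIso (CommRingCat.of C)).inv
    refine Eq.trans ?_ (Scheme.ΓSpecIso_inv_naturality
      (CommRingCat.ofHom φ : Γ(X, U) ⟶ CommRingCat.of C)).symm
    congr 1
    rw [Scheme.Hom.appLE, hU.fromSpec_app_self, Category.assoc, ← Functor.map_comp]
    erw [(Spec Γ(X, U)).presheaf.map_id]
    exact Category.comp_id _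
  have hbij := ConcreteCategory.bijective_of_isIso (Scheme.ΓSpecIso (CommRingCat.of C)).inv
  have h1 := hle ⟨⊤, isAffineOpen_top _⟩
  rw [hform, hform] at h1
  have h2 := Ideal.comap_mono (f := (Scheme.ΓSpecIso (CommRingCat.of C)).inv.hom) h1
  rw [Ideal.comap_map_of_bijective _ hbij, Ideal.comap_map_of_bijective _ hbij] at h2
  have h3 : φ a ∈ (D'.ideal ⟨U, hU⟩).map φ := h2 (Ideal.mem_map_of_mem φ ha)
  let Ψ : C →ₐ[A] k ⊗[A] M := Algebra.TensorProduct.map (AlgHom.id A k) ρ
  have h4 : (D'.ideal ⟨U, hU⟩).map φ ≤ RingHom.ker Ψ.toRingHom := Ideal.map_le_iff_le_comap.2 fun b hb => by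
    show Ψ ((1 : k) ⊗ₜ[A] b) = 0
    exact (Algebra.TensorProduct.map_tmul (AlgHom.id A k) ρ (1 : k) b).trans ((congrArg (fun m => (1 : k) ⊗ₜ[A] m) (hker b hb)).trans (TensorProduct.tmul_zero _ _))
  exact h4 h3

theorem le_of_fibres [IsLocallyNoetherian T] [AlgebraicGeometry.IsReduced T] (π : X ⟶ T)
    (D D' : X.IdealSheafData) [Flat (D'.subschemeι ≫ π)]
    (hfib : ∀ t : ↥T, D.comap (pullback.fst π (T.fromSpecResidueField t)) ≤
      D'.comap (pullback.fst π (T.fromSpecResidueField t))) : D ≤ D' := by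
  classical
  let S := {p : T.affineOpens × X.affineOpens // p.2.1 ≤ π ⁻¹ᵁ p.1.1}
  refine Scheme.IdealSheafData.le_of_iSup_eq_top (fun s : S => s.1.2) ?_ fun s => ?_
  · rw [eq_top_iff]
    intro x _
    obtain ⟨V, hV, hxV, -⟩ := exists_isAffineOpen_mem_and_subset (x := π x) (U := ⊤) trivial
    obtain ⟨U, hU, hxU, hUV⟩ := exists_isAffineOpen_mem_and_subset (x := x) (U := π ⁻¹ᵁ V) hxV
    exact TopologicalSpace.Opens.mem_iSup.2 ⟨⟨(⟨V, hV⟩, ⟨U, hU⟩), hUV⟩, hxU⟩
  obtain ⟨⟨⟨V, hV⟩, ⟨U, hU⟩⟩, hUV⟩ := s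
  exact ideal_le_of_fibres π D D' hfib V hV U hU hUV

end Groth.Agent.RelDivX
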